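/-
In a group of two-by-two matrices containing a diagonal element of projective order at least three and a second element
with no common fixed line, some element carries the first coordinate line to the second one.
-/
import Cfsg.Agent.Lib.PSL2.Dickson
import Cfsg.Agent.Lib.PSL2.TraceClasses
import Cfsg.Agent.Lib.PSL2.MaximalPGL

set_option autoImplicit false
set_option maxHeartbeats 1600000

namespace Cfsg.Agent.MaxCl.SU3.Frame

open Matrix Cfsg.Agent.PSL2
open scoped MatrixGroups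

variable {F : Type*} [Field F]

theorem alt4_conj_comm : ∃ t : alternatingGroup (Fin 4), t ≠ 1 ∧ t * t = 1 ∧
    ∀ z : alternatingGroup (Fin 4), z * t * z⁻¹ * t = t * (z * t * z⁻¹) := by decide +kernel

theorem alt4_pow : ∀ s : alternatingGroup (Fin 4), s ^ 2 = 1 ∨ s ^ 3 = 1 := by decide +kernel

theorem alt5_real : ∀ s : alternatingGroup (Fin 5), ∃ k, k * s = s⁻¹ * k := by decide +kernel

theorem perm4_real : ∀ s : Equiv.Perm (Fin 4), ∃ k, k * s = s⁻¹ * k := by decide +kernel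

/-- every element of `PGL(2, K)` is real -/
theorem pgl_real {K : Type*} [Field K] (z : Matrix.ProjGenLinGroup (Fin 2) K) :
    ∃ k, k * z = z⁻¹ * k := by
  induction z using Matrix.ProjGenLinGroup.induction_on with | mk A => ?_
  obtain ⟨a, b, c, hd, h⟩ : ∃ a b c : K, -a * a - b * c ≠ 0 ∧
      a * (A 0 0 - A 1 1) + b * A 1 0 + c * A 0 1 = 0 := by
    by_cases h01 : A 0 1 = 0
    · by_cases h10 : A 1 0 = 0
      · exact ⟨0, 1, 1, by simp, by rw [h01, h10]; ring⟩
      · exact ⟨1, -(A 0 0 - A 1 1) / A 1 0, 0, by simp, by field_simp; ring⟩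
    · exact ⟨1, 0, -(A 0 0 - A 1 1) / A 0 1, by simp, by field_simp; ring⟩
  let P : GL (Fin 2) K := Matrix.GeneralLinearGroup.mkOfDetNeZero !![a, b; c, -a]
    (by rw [Matrix.det_fin_two_of]; convert hd using 1; ring)
  have hA : (A : Matrix (Fin 2) (Fin 2) K).det ≠ 0 := (A.isUnit.map Matrix.detMonoidHom).ne_zero
  let D : GL (Fin 2) K := Matrix.GeneralLinearGroup.mkOfDetNeZero
    !![(A : Matrix (Fin 2) (Fin 2) K) 1 1, -A 0 1; -A 1 0, A 0 0]
    (by rw [Matrix.det_fin_two_of]; rw [Matrix.det_fin_two] at hA; convert hA using 1; ring)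
  have e1 : P * A = D * P := Units.ext (by
    ext i j
    fin_cases i <;> fin_cases j <;> simp [P, D, Matrix.mul_apply, Fin.sum_univ_two] <;>
      first
        | linear_combination h
        | ring)
  refine ⟨Matrix.ProjGenLinGroup.mk P, ?_⟩
  have e2 : Matrix.ProjGenLinGroup.mk D = (Matrix.ProjGenLinGroup.mk A)⁻¹ := by
    rw [eq_inv_iff_mul_eq_one, ← map_mul, Matrix.ProjGenLinGroup.mk_eq_one,
      Matrix.GeneralLinearGroup.mem_center_iff_val_mem_range_scalar]
    refine ⟨(A : Matrix (Fin 2) (Fin 2) K).det, ?_⟩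
    ext i j
    fin_cases i <;> fin_cases j <;>
      simp [D, Matrix.det_fin_two, Matrix.mul_apply, Fin.sum_univ_two, Matrix.scalar_apply] <;> ring
  rw [← e2, ← map_mul, e1, map_mul]

/-- elements of `PSL(2, K)` of order prime to the characteristic are real -/
theorem psl_real {K : Type*} [Field K] [Fintype K] (p : ℕ) [Fact p.Prime] [CharP K p]
    (z : PSL(2, K)) (hz : z ^ p = 1 → z = 1) : ∃ k, k * z = z⁻¹ * k := by
  obtain ⟨G, rfl⟩ := PSL2.mk_surjective z
  by_cases h4 : Matrix.trace (G : Matrix (Fin 2) (Fin 2) K) ^ 2 = 4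
  · refine ⟨1, ?_⟩
    suffices h : mk (G ^ p) = 1 by
      rw [map_pow] at h; simp [hz h]
    obtain ⟨s, hs, hs1⟩ : ∃ s : K, Matrix.trace (G : Matrix (Fin 2) (Fin 2) K) = 2 * s ∧ (s = 1 ∨ s = -1) := by
      generalize Matrix.trace (G : Matrix (Fin 2) (Fin 2) K) = t at h4
      rcases mul_eq_zero.1 (show (t - 2) * (t + 2) = 0 by linear_combination h4) with h | h
      · exact ⟨1, by linear_combination h, Or.inl rfl⟩
      · exact ⟨-1, by linear_combination h, Or.inr rfl⟩
    set M : Matrix (Fin 2) (Fin 2) K := (G : Matrix (Fin 2) (Fin 2) K) with hM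
    set N : Matrix (Fin 2) (Fin 2) K := M - Matrix.scalar (Fin 2) s with hN
    have hss : s * s = 1 := by rcases hs1 with h | h <;> simp [h]
    have hd : M.det = 1 := G.2
    rw [Matrix.det_fin_two] at hd
    rw [Matrix.trace_fin_two] at hs
    have hN2 : N * N = 0 := by
      ext i j
      fin_cases i <;> fin_cases j <;> simp [N, Matrix.mul_apply, Fin.sum_univ_two, Matrix.scalar_apply]
      · linear_combination M 0 0 * hs - hd + hss
      · linear_combination M 0 1 * hs
      · linear_combination M 1 0 * hs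
      · linear_combination M 1 1 * hs - hd + hss
    have hNp : N ^ p = 0 := by
      obtain ⟨k, hk⟩ := Nat.le.dest (Fact.out (p := p.Prime)).two_le
      rw [← hk, pow_add, sq, hN2, zero_mul]
    have e : M ^ p = Matrix.scalar (Fin 2) (s ^ p) := by
      rw [show M = Matrix.scalar (Fin 2) s + N by rw [hN]; abel,
        add_pow_char_of_commute p (Matrix.scalar_commute s (fun r => Commute.all s r) N), hNp, add_zero,
        ← map_pow]
    rw [PSL2.mk_eq_one]
    rcases show s ^ p = 1 ∨ s ^ p = -1 by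
      rcases hs1 with h | h
      · left; rw [h, one_pow]
      · rw [h]; exact neg_one_pow_eq_or K p with h | h
    · left
      apply Subtype.ext
      rw [Matrix.SpecialLinearGroup.coe_pow, ← hM, e, h, map_one, Matrix.SpecialLinearGroup.coe_one]
    · right
      apply Subtype.ext
      rw [Matrix.SpecialLinearGroup.coe_pow, ← hM, e, h, map_neg, map_one]
      simp
  · have ht : Matrix.trace (G : Matrix (Fin 2) (Fin 2) K) =
        Matrix.trace ((G⁻¹ : SL(2, K)) : Matrix (Fin 2) (Fin 2) K) := by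
      rw [Matrix.trace_fin_two, Matrix.trace_fin_two, Matrix.SpecialLinearGroup.coe_inv, Matrix.adjugate_fin_two]
      simp [add_comm]
    obtain ⟨k, hk⟩ := isConj_iff.1 (TraceClasses.isConj_of_trace G G⁻¹
      (TraceClasses.not_isScalar'_of_trace G h4)
      (TraceClasses.not_isScalar'_of_trace G⁻¹ (by rwa [← ht])) ht h4)
    refine ⟨mk k, ?_⟩
    rw [← map_mul, ← map_inv, ← map_mul, ← hk, inv_mul_cancel_right]

/-- `v` spans a line fixed by `Z` -/
def Fixes (Z : Matrix (Fin 2) (Fin 2) F) (v : Fin 2 → F) : Prop :=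
  (Z *ᵥ v) 0 * v 1 - (Z *ᵥ v) 1 * v 0 = 0

theorem fixes_neg {Z : Matrix (Fin 2) (Fin 2) F} {v : Fin 2 → F} (h : Fixes Z v) : Fixes (-Z) v := by
  unfold Fixes at h ⊢
  simp only [Matrix.neg_mulVec, Pi.neg_apply]
  linear_combination -h

/-- the group of `A₄` type in characteristic two fixes a line -/
theorem fixed_line_alt4 (h2 : (2 : F) = 0) (H : Subgroup PSL(2, F))
    (e : H ≃* alternatingGroup (Fin 4)) :
    ∃ v : Fin 2 → F, v ≠ 0 ∧ ∀ Z : SL(2, F), mk Z ∈ H → Fixes (Z : Matrix (Fin 2) (Fin 2) F) v := by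
  obtain ⟨t, ht1, htt, htc⟩ := alt4_conj_comm
  obtain ⟨T, hT⟩ := PSL2.mk_surjective ((e.symm t : H) : PSL(2, F))
  have hneg : ∀ x : SL(2, F), -x = x := fun x => Subtype.ext (by
    ext i j
    simp only [Matrix.SpecialLinearGroup.coe_neg, Matrix.neg_apply]
    linear_combination -((x : Matrix (Fin 2) (Fin 2) F) i j) * h2)
  have hinj : ∀ x y : SL(2, F), mk x = mk y → x = y := fun x y h => by
    rcases PSL2.mk_eq_mk.1 h with h | h
    · exact h
    · rw [h, hneg]
  have hTT : T * T = 1 := hinj _ _ (by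
    rw [map_mul, hT, map_one, ← Subgroup.coe_mul, ← map_mul, htt, map_one, Subgroup.coe_one])
  have hT1 : T ≠ 1 := fun h => ht1 (e.symm.injective (Subtype.ext (by
    rw [← hT, h, map_one, map_one, Subgroup.coe_one])))
  set N : Matrix (Fin 2) (Fin 2) F := (T : Matrix (Fin 2) (Fin 2) F) + 1 with hN
  have hTN : (T : Matrix (Fin 2) (Fin 2) F) * (T : Matrix (Fin 2) (Fin 2) F) = 1 := by
    have := congrArg Subtype.val hTT
    simpa using this
  have hN0 : N ≠ 0 := fun h => hT1 (Subtype.ext (by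
    ext i j
    have := congrFun (congrFun h i) j
    simp only [N, Matrix.add_apply, Matrix.zero_apply] at this
    simp only [Matrix.SpecialLinearGroup.coe_one]
    linear_combination this - ((1 : Matrix (Fin 2) (Fin 2) F) i j) * h2))
  have hNN : N * N = 0 := by
    rw [hN, add_mul, one_mul, mul_add, hTN, mul_one]
    ext i j
    simp only [Matrix.add_apply, Matrix.zero_apply]
    linear_combination (((T : Matrix (Fin 2) (Fin 2) F) i j) + (1 : Matrix (Fin 2) (Fin 2) F) i j) * h2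
  obtain ⟨j, i, hij⟩ : ∃ j i, N i j ≠ 0 := by
    by_contra h; push Not at h
    exact hN0 (Matrix.ext fun i j => h j i)
  obtain ⟨v, hv⟩ : ∃ v : Fin 2 → F, v = fun k => N k j := ⟨_, rfl⟩
  have hv0 : v ≠ 0 := fun h => hij (by rw [hv] at h; exact congrFun h i)
  have hNv : N *ᵥ v = 0 := funext fun k => by
    have := congrFun (congrFun hNN k) j
    simpa [hv, Matrix.mulVec, dotProduct, Matrix.mul_apply] using this
  -- two vectors in the kernel of a non-zero matrix are dependent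
  have dep : ∀ w w' : Fin 2 → F, N *ᵥ w = 0 → N *ᵥ w' = 0 → w 0 * w' 1 - w 1 * w' 0 = 0 := by
    intro w w' h h'
    have e1 : ∀ k, N k 0 * w 0 + N k 1 * w 1 = 0 := fun k => by
      simpa [Matrix.mulVec, dotProduct, Fin.sum_univ_two] using congrFun h k
    have e2 : ∀ k, N k 0 * w' 0 + N k 1 * w' 1 = 0 := fun k => by
      simpa [Matrix.mulVec, dotProduct, Fin.sum_univ_two] using congrFun h' k
    by_contra hd
    refine hN0 (Matrix.ext fun k l => ?_)
    have a : N k 0 = 0 := (mul_eq_zero.1 (show N k 0 * (w 0 * w' 1 - w 1 * w' 0) = 0 by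
      linear_combination w' 1 * e1 k - w 1 * e2 k)).resolve_right hd
    have b : N k 1 = 0 := (mul_eq_zero.1 (show N k 1 * (w 0 * w' 1 - w 1 * w' 0) = 0 by
      linear_combination w 0 * e2 k - w' 0 * e1 k)).resolve_right hd
    fin_cases l <;> assumption
  refine ⟨v, hv0, fun Z hZ => ?_⟩
  have hcomm : Z * T * Z⁻¹ * T = T * (Z * T * Z⁻¹) := by
    apply hinj
    have hz := congrArg (fun a => ((e.symm a : H) : PSL(2, F))) (htc (e ⟨mk Z, hZ⟩))
    simpa [map_mul, hT] using hz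
  set U : SL(2, F) := Z * T * Z⁻¹ with hU
  -- `U` fixes the kernel of `N`, hence `v`
  have hUN : N * (U : Matrix (Fin 2) (Fin 2) F) = (U : Matrix (Fin 2) (Fin 2) F) * N := by
    have := congrArg Subtype.val hcomm
    simp only [Matrix.SpecialLinearGroup.coe_mul] at this
    rw [hN, add_mul, mul_add, this, one_mul, mul_one]
  have hk : N *ᵥ ((U : Matrix (Fin 2) (Fin 2) F) *ᵥ v) = 0 := by
    rw [Matrix.mulVec_mulVec, hUN, ← Matrix.mulVec_mulVec, hNv, Matrix.mulVec_zero]
  have hUU : (U : Matrix (Fin 2) (Fin 2) F) * (U : Matrix (Fin 2) (Fin 2) F) = 1 := by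
    have : U * U = 1 := by rw [hU]; simp only [mul_assoc, inv_mul_cancel_left]; rw [← mul_assoc T T, hTT]; simp
    simpa using congrArg Subtype.val this
  set w := (U : Matrix (Fin 2) (Fin 2) F) *ᵥ v with hw
  obtain ⟨μ, hμ⟩ : ∃ μ : F, w = μ • v := by
    have d := dep w v hk hNv
    by_cases h0 : v 0 = 0
    · have h1 : v 1 ≠ 0 := fun h => hv0 (funext fun k => by fin_cases k <;> assumption)
      refine ⟨w 1 / v 1, funext fun k => ?_⟩
      fin_cases k
      · rw [h0, mul_zero, sub_zero, mul_eq_zero, or_iff_left h1] at d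
        simp [h0, d]
      · simp [h1]
    · refine ⟨w 0 / v 0, funext fun k => ?_⟩
      rcases (show k = 0 ∨ k = 1 by omega) with rfl | rfl
      · simp [h0]
      · simp only [Pi.smul_apply, smul_eq_mul]; field_simp; linear_combination -d
  have hμ2 : (μ * μ - 1) • v = 0 := by
    have := congrArg (fun x => (U : Matrix (Fin 2) (Fin 2) F) *ᵥ x) hμ
    rw [hw, Matrix.mulVec_mulVec, hUU, Matrix.one_mulVec, Matrix.mulVec_smul, ← hw, hμ, smul_smul] at this
    rw [sub_smul, one_smul, ← this, sub_self]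
  have hμ1 : μ = 1 := by
    have h := (smul_eq_zero.1 hμ2).resolve_right hv0
    have h' : (μ - 1) * (μ - 1) = 0 := by linear_combination h + (1 - μ) * h2
    exact sub_eq_zero.1 (mul_self_eq_zero.1 h')
  have hUv : (U : Matrix (Fin 2) (Fin 2) F) *ᵥ v = v := by rw [← hw, hμ, hμ1, one_smul]
  -- hence `Z⁻¹ v` is fixed by `T`
  have hTv : N *ᵥ (((Z⁻¹ : SL(2, F)) : Matrix (Fin 2) (Fin 2) F) *ᵥ v) = 0 := by
    have hzu : ((Z⁻¹ : SL(2, F)) : Matrix (Fin 2) (Fin 2) F) * (U : Matrix (Fin 2) (Fin 2) F) =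
        (T : Matrix (Fin 2) (Fin 2) F) * ((Z⁻¹ : SL(2, F)) : Matrix (Fin 2) (Fin 2) F) := by
      have hzu' : Z⁻¹ * U = T * Z⁻¹ := by rw [hU, ← mul_assoc, ← mul_assoc, inv_mul_cancel, one_mul]
      simpa using congrArg Subtype.val hzu'
    rw [hN, Matrix.add_mulVec, Matrix.one_mulVec, Matrix.mulVec_mulVec, ← hzu, ← Matrix.mulVec_mulVec, hUv]
    funext k
    simp only [Pi.add_apply, Pi.zero_apply]
    linear_combination ((((Z⁻¹ : SL(2, F)) : Matrix (Fin 2) (Fin 2) F) *ᵥ v) k) * h2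
  have d := dep _ v hTv hNv
  simp only [Matrix.SpecialLinearGroup.coe_inv, Matrix.adjugate_fin_two, Matrix.mulVec, dotProduct,
    Fin.sum_univ_two, Matrix.of_apply, Matrix.cons_val', Matrix.cons_val_zero, Matrix.cons_val_one,
    Matrix.cons_val_fin_one] at d
  simp only [Fixes, Matrix.mulVec, dotProduct, Fin.sum_univ_two]
  linear_combination -d

variable [Fintype F]

/-- a subgroup of a Sylow normaliser fixes a line -/
theorem fixed_line_sylow (p : ℕ) [Fact p.Prime] [CharP F p] (P : Sylow p PSL(2, F)) (H : Subgroup PSL(2, F))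
    (hH : H ≤ Subgroup.normalizer ((P : Subgroup PSL(2, F)) : Set PSL(2, F))) :
    ∃ v : Fin 2 → F, v ≠ 0 ∧ ∀ Z : SL(2, F), mk Z ∈ H → Fixes (Z : Matrix (Fin 2) (Fin 2) F) v := by
  obtain ⟨g, hg⟩ := MulAction.exists_smul_eq PSL(2, F) P (unipSylowPSL F p)
  have hP : (P : Subgroup PSL(2, F)).map (MulAut.conj g).toMonoidHom = (unip F).map mk := by
    rw [← coe_unipSylowPSL p, ← hg]; rfl
  have hN : (Subgroup.normalizer ((P : Subgroup PSL(2, F)) : Set PSL(2, F))).map
      (MulAut.conj g).toMonoidHom = (borel F).map mk := by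
    rw [← normalizer_unip_map, ← hP]
    exact Subgroup.map_equiv_normalizer_eq _ (MulAut.conj g)
  obtain ⟨G, rfl⟩ := PSL2.mk_surjective g
  refine ⟨((G⁻¹ : SL(2, F)) : Matrix (Fin 2) (Fin 2) F) *ᵥ ![1, 0], ?_, fun Z hZ => ?_⟩
  · intro h
    have := congrArg (fun x => (G : Matrix (Fin 2) (Fin 2) F) *ᵥ x) h
    simp only [Matrix.mulVec_mulVec, ← Matrix.SpecialLinearGroup.coe_mul, mul_inv_cancel,
      Matrix.SpecialLinearGroup.coe_one, Matrix.one_mulVec, Matrix.mulVec_zero] at this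
    simpa using congrFun this 0
  obtain ⟨B, hB, hBe⟩ : (MulAut.conj (mk G)).toMonoidHom (mk Z) ∈ (borel F).map mk :=
    hN ▸ Subgroup.mem_map_of_mem _ (hH hZ)
  rw [MulEquiv.coe_toMonoidHom, MulAut.conj_apply, ← map_inv, ← map_mul, ← map_mul] at hBe
  have key : ∀ W : SL(2, F), W 1 0 = 0 → Fixes ((G⁻¹ * W * G : SL(2, F)) : Matrix (Fin 2) (Fin 2) F)
      (((G⁻¹ : SL(2, F)) : Matrix (Fin 2) (Fin 2) F) *ᵥ ![1, 0]) := by
    intro W hW
    unfold Fixes
    rw [Matrix.mulVec_mulVec, ← Matrix.SpecialLinearGroup.coe_mul, mul_inv_cancel_right,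
      Matrix.SpecialLinearGroup.coe_mul, ← Matrix.mulVec_mulVec]
    have e : (W : Matrix (Fin 2) (Fin 2) F) *ᵥ ![1, 0] = (W 0 0) • ![1, 0] := by
      funext k; fin_cases k <;> simp [hW]
    rw [e, Matrix.mulVec_smul]
    simp only [Pi.smul_apply, smul_eq_mul]
    ring
  rcases PSL2.mk_eq_mk.1 hBe with h | h
  · have := key B (mem_borel.1 hB)
    rwa [h, show G⁻¹ * (G * Z * G⁻¹) * G = Z by group] at this
  · have := fixes_neg (key B (mem_borel.1 hB))
    rwa [h, ← Matrix.SpecialLinearGroup.coe_neg, show -(G⁻¹ * -(G * Z * G⁻¹) * G) = Z by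
      rw [mul_neg, neg_mul, neg_neg]; group] at this

/-- the projective statement -/
theorem exists_corner (p : ℕ) [Fact p.Prime] [CharP F p] (H : Subgroup PSL(2, F)) {X Y : SL(2, F)}
    (hX : mk X ∈ H) (hY : mk Y ∈ H) (h01 : X 0 1 = 0) (h10 : X 1 0 = 0) (h4 : X 0 0 ^ 4 ≠ 1)
    (h6 : X 0 0 ^ 6 = 1 → (2 : F) = 0) (y01 : Y 0 1 ≠ 0) (y10 : Y 1 0 ≠ 0) :
    ∃ K : SL(2, F), mk K ∈ H ∧ K 0 0 = 0 := by
  have hd := det_eq X
  rw [h01, h10, mul_zero, sub_zero] at hd
  have hx0 : X 0 0 ≠ 0 := left_ne_zero_of_mul_eq_one hd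
  have hne : ∀ s : F, s * s = 1 → X 0 0 ≠ s * X 1 1 := by
    intro s hs h
    apply h4
    have : X 0 0 * X 0 0 = s := by linear_combination X 0 0 * h + s * hd
    linear_combination (X 0 0 * X 0 0 + s) * this + hs
  have hncomm : ¬ Commute (mk X) (mk Y) := by
    intro h
    rw [commute_iff_eq, ← map_mul, ← map_mul, PSL2.mk_eq_mk] at h
    rcases h with h | h
    all_goals
      have := congrArg (fun W : SL(2, F) => W 0 1) h
      simp [Matrix.mul_apply, Fin.sum_univ_two, h01] at this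
    · exact hne 1 (by ring) (mul_right_cancel₀ y01 (by linear_combination this))
    · exact hne (-1) (by ring) (mul_right_cancel₀ y01 (by linear_combination this))
  have hnofix : ¬ ∃ v : Fin 2 → F, v ≠ 0 ∧ ∀ Z : SL(2, F), mk Z ∈ H → Fixes (Z : Matrix (Fin 2) (Fin 2) F) v := by
    rintro ⟨v, hv, h⟩
    have hx := h X hX
    have hy := h Y hY
    simp only [Fixes, Matrix.mulVec, dotProduct, Fin.sum_univ_two, h01, h10, zero_mul, add_zero, zero_add] at hx hy
    have h01' : v 0 * v 1 = 0 := (mul_eq_zero.1 (show (X 0 0 - 1 * X 1 1) * (v 0 * v 1) = 0 by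
      linear_combination hx)).resolve_left (sub_ne_zero.2 (hne 1 (by ring)))
    rcases mul_eq_zero.1 h01' with h0 | h1
    · have h1 : v 1 ≠ 0 := fun h => hv (funext fun k => by fin_cases k <;> assumption)
      exact y01 ((mul_eq_zero.1 (show Y 0 1 * (v 1 * v 1) = 0 by
        rw [h0] at hy; linear_combination hy)).resolve_right (mul_ne_zero h1 h1))
    · have h0 : v 0 ≠ 0 := fun h => hv (funext fun k => by fin_cases k <;> assumption)
      exact y10 ((mul_eq_zero.1 (show Y 1 0 * (v 0 * v 0) = 0 by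
        rw [h1] at hy; linear_combination -hy)).resolve_right (mul_ne_zero h0 h0))
  suffices hreal : ∃ k ∈ H, k * mk X = (mk X)⁻¹ * k by
    obtain ⟨k, hk, e⟩ := hreal
    obtain ⟨K, rfl⟩ := PSL2.mk_surjective k
    refine ⟨K, hk, ?_⟩
    rw [← map_inv, ← map_mul, ← map_mul, PSL2.mk_eq_mk] at e
    by_contra h0
    rcases e with e | e
    all_goals
      have := congrArg (fun W : SL(2, F) => W 0 0) e
      simp only [mul00, inv00, inv01, h10, h01, SpecialLinearGroup.coe_neg, Matrix.neg_apply, mul_zero, zero_mul, add_zero, neg_zero] at this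
    · exact hne 1 (by ring) (mul_left_cancel₀ h0 (by linear_combination this))
    · exact hne (-1) (by ring) (mul_left_cancel₀ h0 (by linear_combination this))
  have hord : ∀ n : ℕ, X 0 0 ^ n ≠ 1 → X 0 0 ^ n ≠ -1 → mk X ^ n ≠ 1 := by
    intro n h h' he
    have hpow : ∀ n : ℕ, (X ^ n) 0 0 = X 0 0 ^ n := fun n => by
      induction n with
      | zero => simp
      | succ n ih => rw [pow_succ]; simp [Matrix.mul_apply, Fin.sum_univ_two, h10, ← ih, pow_succ]
    rw [← map_pow, PSL2.mk_eq_one] at he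
    rcases he with e | e
    · exact h (by rw [← hpow, e]; simp)
    · exact h' (by rw [← hpow, e]; simp)
  have hx2 : mk X * mk X ≠ 1 := by
    rw [← sq]
    exact hord 2 (fun h => h4 (by linear_combination (X 0 0 ^ 2 + 1) * h))
      (fun h => h4 (by linear_combination (X 0 0 ^ 2 - 1) * h))
  have hq : mk X ^ (Fintype.card F - 1) = 1 := by
    have : ∀ n : ℕ, (X ^ n) 0 0 = X 0 0 ^ n ∧ (X ^ n) 0 1 = 0 ∧ (X ^ n) 1 0 = 0 ∧ (X ^ n) 1 1 = X 1 1 ^ n := by
      intro n
      induction n with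
      | zero => simp
      | succ n ih =>
        rw [pow_succ X]
        simp only [mul00, mul01, mul10, mul11, h10, h01, ih.1, ih.2.1, ih.2.2.1, ih.2.2.2, pow_succ, mul_zero,
          zero_mul, add_zero, zero_add, and_self]
    obtain ⟨a, b, c, d⟩ := this (Fintype.card F - 1)
    rw [← map_pow, PSL2.mk_eq_one]
    left
    rw [FiniteField.pow_card_sub_one_eq_one _ hx0] at a
    rw [FiniteField.pow_card_sub_one_eq_one _ (right_ne_zero_of_mul_eq_one hd)] at d
    exact PSL2.ext2 (by rw [a]; simp) (by rw [b]; simp) (by rw [c]; simp) (by rw [d]; simp)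
  have back : ∀ {L : Type} [Group L] (e : H ≃* L), (∃ k, k * e ⟨mk X, hX⟩ = (e ⟨mk X, hX⟩)⁻¹ * k) →
      ∃ k ∈ H, k * mk X = (mk X)⁻¹ * k := by
    intro L _ e ⟨k, hk⟩
    refine ⟨e.symm k, (e.symm k).2, ?_⟩
    have := congrArg (fun l => ((e.symm l : H) : PSL(2, F))) hk
    simpa using this
  rcases PSL2.dickson p H with ⟨k, -, ⟨hc, -⟩ | ⟨⟨e⟩⟩⟩ | ⟨P, hP⟩ | ⟨⟨e⟩⟩ | ⟨⟨e⟩⟩ | ⟨⟨e⟩⟩ | ⟨K, _, _, m, hm, he⟩
  · exact absurd (congrArg Subtype.val (hc.isMulCommutative.is_comm.comm ⟨mk X, hX⟩ ⟨mk Y, hY⟩)) hncomm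
  · have e2 : ∀ a : DihedralGroup k, (∃ i, a = .r i) ∨ ∃ i, a = .sr i := fun a => by cases a <;> simp
    obtain ⟨i, hi⟩ : ∃ i, e ⟨mk X, hX⟩ = .r i := by
      refine (e2 _).resolve_right fun ⟨i, hi⟩ => hx2 ?_
      have : (⟨mk X, hX⟩ : H) * ⟨mk X, hX⟩ = 1 := e.injective (by rw [map_mul, hi, map_one]; simp)
      simpa using congrArg Subtype.val this
    rcases e2 (e ⟨mk Y, hY⟩) with ⟨j, hj⟩ | ⟨j, hj⟩
    · refine absurd ?_ hncomm
      have : (⟨mk X, hX⟩ : H) * ⟨mk Y, hY⟩ = ⟨mk Y, hY⟩ * ⟨mk X, hX⟩ :=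
        e.injective (by rw [map_mul, map_mul, hi, hj]; simp [add_comm])
      exact congrArg Subtype.val this
    · refine ⟨mk Y, hY, ?_⟩
      have : (⟨mk Y, hY⟩ : H) * ⟨mk X, hX⟩ = (⟨mk X, hX⟩ : H)⁻¹ * ⟨mk Y, hY⟩ :=
        e.injective (by rw [map_mul, map_mul, map_inv, hi, hj]; simp [sub_neg_eq_add])
      simpa using congrArg Subtype.val this
  · exact absurd (fixed_line_sylow p P H hP) hnofix
  · refine absurd (fixed_line_alt4 (h6 ?_) H e) hnofix
    have h3 : mk X ^ 3 = 1 := by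
      rcases alt4_pow (e ⟨mk X, hX⟩) with h | h
      · have : (⟨mk X, hX⟩ : H) ^ 2 = 1 := e.injective (by rw [map_pow, h, map_one])
        exact absurd (by simpa [sq] using congrArg Subtype.val this) hx2
      · have : (⟨mk X, hX⟩ : H) ^ 3 = 1 := e.injective (by rw [map_pow, h, map_one])
        simpa using congrArg Subtype.val this
    by_contra h
    exact hord 3 (fun h' => h (by linear_combination (X 0 0 ^ 3 + 1) * h'))
      (fun h' => h (by linear_combination (X 0 0 ^ 3 - 1) * h')) h3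
  · exact back e (perm4_real _)
  · exact back e (alt5_real _)
  · rcases he with ⟨⟨e⟩⟩ | ⟨⟨e⟩⟩
    · have hm0 : m ≠ 0 := fun h => by
        rw [h, pow_zero] at hm
        exact absurd hm.symm (Fintype.one_lt_card (α := F)).ne'
      obtain ⟨n, hr, hn⟩ := FiniteField.card F p
      obtain ⟨r, hcr⟩ := CharP.exists K
      obtain ⟨i, hr', hi⟩ := FiniteField.card K r
      have hrp : r = p := by
        rw [hi, ← pow_mul, hn] at hm
        exact (Nat.prime_dvd_prime_iff_eq hr' Fact.out).1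
          (hr'.dvd_of_dvd_pow (hm ▸ dvd_pow_self r (Nat.mul_ne_zero i.pos.ne' hm0)))
      haveI : CharP K p := hrp ▸ hcr
      refine back e (psl_real p _ fun hz => ?_)
      have hz' : e ⟨mk X, hX⟩ ^ (Fintype.card F - 1) = 1 := by
        rw [← map_pow, show (⟨mk X, hX⟩ : H) ^ (Fintype.card F - 1) = 1 from Subtype.ext (by simpa using hq), map_one]
      have hg : Nat.gcd p (Fintype.card F - 1) = 1 := by
        refine (Fact.out (p := p.Prime)).coprime_iff_not_dvd.2 fun hd => ?_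
        have h1 : p ∣ Fintype.card F := hn ▸ dvd_pow_self p n.pos.ne'
        have h2 := Nat.dvd_sub h1 hd
        rw [Nat.sub_sub_self Fintype.card_pos] at h2
        exact (Fact.out (p := p.Prime)).not_dvd_one h2
      have := pow_gcd_eq_one.2 ⟨hz, hz'⟩
      rwa [hg, pow_one] at this
    · exact back e (pgl_real _)

/-- In a matrix group with square determinants, a diagonal element with ratio of order at least three and an element
with no zero off the diagonal give an element with a zero corner. -/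
theorem exists_corner_gl (G : Subgroup (GL (Fin 2) F))
    (hdet : ∀ A ∈ G, IsSquare (A : Matrix (Fin 2) (Fin 2) F).det) {A B : GL (Fin 2) F} (hA : A ∈ G) (hB : B ∈ G)
    (h01 : A 0 1 = 0) (h10 : A 1 0 = 0) {ρ : F} (hρ : A 0 0 = ρ * A 1 1) (hρ2 : ρ ^ 2 ≠ 1)
    (hρ3 : ρ ^ 3 = 1 → (2 : F) = 0) (b01 : B 0 1 ≠ 0) (b10 : B 1 0 ≠ 0) :
    ∃ C ∈ G, (C : GL (Fin 2) F) 0 0 = 0 := by
  obtain ⟨p, _⟩ := CharP.exists F
  haveI := Fact.mk (CharP.char_is_prime F p)
  have lift : ∀ C ∈ G, ∃ (X : SL(2, F)) (c : F), c ≠ 0 ∧ (∀ i j, X i j = c * C i j) ∧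
      mk X ∈ (G.map Matrix.ProjGenLinGroup.mk).comap (Maximal.psi (F := F)) := by
    intro C hC
    obtain ⟨s, hs⟩ := hdet C hC
    have hs0 : s ≠ 0 := fun h => (C.isUnit.map Matrix.detMonoidHom).ne_zero (by
      show (C : Matrix (Fin 2) (Fin 2) F).det = 0
      rw [hs, h, zero_mul])
    let X : SL(2, F) := ⟨s⁻¹ • (C : Matrix (Fin 2) (Fin 2) F), by
      rw [Matrix.det_smul, hs, Fintype.card_fin]; field_simp⟩
    refine ⟨X, s⁻¹, inv_ne_zero hs0, fun i j => rfl, ⟨C, hC, ?_⟩⟩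
    show Matrix.ProjGenLinGroup.mk C = Matrix.ProjGenLinGroup.mk (Matrix.SpecialLinearGroup.toGL X)
    rw [Matrix.ProjGenLinGroup.mk_eq_mk_iff]
    refine ⟨Units.mk0 _ (inv_ne_zero hs0), Units.ext ?_⟩
    ext i j
    show _ = (X : Matrix (Fin 2) (Fin 2) F) i j
    simp [X, Matrix.mul_apply, Matrix.scalar_apply, Matrix.diagonal, mul_comm]
  obtain ⟨X, c, hc, hXe, hX⟩ := lift A hA
  obtain ⟨Y, d, hd, hYe, hY⟩ := lift B hB
  have hdX := det_eq X
  rw [hXe, hXe, hXe, hXe, h01, h10, hρ] at hdX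
  have e2 : (c * A 0 0) ^ 2 = ρ := by rw [hρ]; linear_combination ρ * hdX
  obtain ⟨K, hK, hK0⟩ := exists_corner p _ hX hY (by rw [hXe, h01, mul_zero]) (by rw [hXe, h10, mul_zero])
    (fun h => hρ2 (by rw [← e2, ← hXe, ← pow_mul, h])) (fun h => hρ3 (by rw [← e2, ← hXe, ← pow_mul, h]))
    (by rw [hYe]; exact mul_ne_zero hd b01) (by rw [hYe]; exact mul_ne_zero hd b10)
  obtain ⟨C, hC, hCe⟩ := hK
  refine ⟨C, hC, ?_⟩
  obtain ⟨u, hu⟩ := Matrix.ProjGenLinGroup.mk_eq_mk_iff.1
    (hCe.trans (show Maximal.psi (mk K) = Matrix.ProjGenLinGroup.mk (Matrix.SpecialLinearGroup.toGL K) from rfl))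
  have := congrArg (fun W : GL (Fin 2) F => (W : Matrix (Fin 2) (Fin 2) F) 0 0) hu
  simpa [Matrix.mul_apply, Matrix.scalar_apply, Matrix.diagonal, hK0] using this

end Cfsg.Agent.MaxCl.SU3.Frame
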