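/-
Stabilisers of orthogonal frames are maximal in SU_3(q), q ≥ 3, q ≠ 5.
-/
import Cfsg.Agent.Lib.MaxCl.SU3.Frame.Inverter
import Cfsg.Agent.Lib.MaxCl.SU3.Point
import Cfsg.Agent.Lib.MaxCl.SU4.FramePlane

set_option autoImplicit false
set_option maxHeartbeats 1600000
set_option linter.unusedSectionVars false

namespace Cfsg.Agent.MaxCl.SU3.Frame

open Cfsg.Agent.MaxCl Cfsg.Agent.MaxCl.Unit
open Cfsg.Agent.MaxCl.SU4.Frame (comb)
open scoped MatrixGroups Matrix

variable {F : Type*} [Field F] [Fintype F]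

/-- The special unitary group of the form. -/
abbrev SUf (q : ℕ) : Subgroup (GL (Fin 3) F) :=
  uiso (Cfsg.hermForm 3 F q) ⊓ Cfsg.Geo.specialLinear (Fin 3) F

theorem others : ∀ i : Fin 3, ∃ j k : Fin 3, i ≠ j ∧ i ≠ k ∧ j ≠ k := by decide

/-- A group above the stabiliser of an orthonormal frame. -/
structure Ctx (τ : F ≃+* F) (q : ℕ) (a : Fin 3 → Fin 3 → F) (M : Subgroup (GL (Fin 3) F)) : Prop where
  qsq : QSq τ q
  three : 3 ≤ q
  five : q ≠ 5
  unitary : Cfsg.Geo.IsUnitaryForm τ (Cfsg.hermForm 3 F q)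
  self : ∀ i, Cfsg.hermForm 3 F q (a i) (a i) = 1
  orth : ∀ i j, i ≠ j → Cfsg.hermForm 3 F q (a i) (a j) = 0
  mono : ∀ g ∈ SUf (F := F) q, (∀ i, ∃ j, ∃ c : F, act g (a i) = c • a j) → g ∈ M
  le : M ≤ SUf q

variable {τ : F ≃+* F} {q : ℕ} {a : Fin 3 → Fin 3 → F} {M : Subgroup (GL (Fin 3) F)} (C : Ctx τ q a M)
include C

local notation "f" => Cfsg.hermForm 3 F q

theorem Ctx.a0 (i : Fin 3) : a i ≠ 0 := fun h => one_ne_zero (by rw [← C.self i, h, zero_left C.unitary])

theorem Ctx.indep : LinearIndependent F a := by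
  rw [Fintype.linearIndependent_iff]
  intro g hg i
  have := congrArg (f · (a i)) hg
  simp only [Fin.sum_univ_three, add_left C.unitary, smul_left C.unitary, zero_left C.unitary] at this
  fin_cases i <;> simpa [C.self, C.orth] using this

theorem Ctx.expand (x : Fin 3 → F) : x = f x (a 0) • a 0 + f x (a 1) • a 1 + f x (a 2) • a 2 := by
  have hspan : Submodule.span F (Set.range a) = ⊤ :=
    C.indep.span_eq_top_of_card_eq_finrank (by rw [Module.finrank_fintype_fun_eq_card])
  obtain ⟨c, hc⟩ := (Submodule.mem_span_range_iff_exists_fun F).1 (hspan ▸ Submodule.mem_top : x ∈ _)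
  rw [Fin.sum_univ_three] at hc
  subst hc
  simp only [add_left C.unitary, smul_left C.unitary, C.self, C.orth 0 1 (by decide), C.orth 0 2 (by decide),
    C.orth 1 0 (by decide), C.orth 1 2 (by decide), C.orth 2 0 (by decide), C.orth 2 1 (by decide), mul_zero,
    mul_one, add_zero, zero_add]

/-- the expansion along any labelling -/
theorem Ctx.expand' {j k l : Fin 3} (hjk : j ≠ k) (hjl : j ≠ l) (hkl : k ≠ l) (x : Fin 3 → F) :
    x = f x (a j) • a j + f x (a k) • a k + f x (a l) • a l := by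
  have := C.expand x
  fin_cases j <;> fin_cases k <;> fin_cases l <;> simp at hjk hjl hkl <;>
    (refine this.trans ?_; simp only [Fin.zero_eta, Fin.mk_one, Fin.reduceFinMk]; try abel)

/-- Parseval -/
theorem Ctx.norm_sum {j k l : Fin 3} (hjk : j ≠ k) (hjl : j ≠ l) (hkl : k ≠ l) (x : Fin 3 → F) :
    f x x = f x (a j) * τ (f x (a j)) + f x (a k) * τ (f x (a k)) + f x (a l) * τ (f x (a l)) := by
  conv_lhs => rw [C.expand' hjk hjl hkl x]
  simp only [add_left C.unitary, add_right C.unitary, smul_left C.unitary, smul_right C.unitary, C.self,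
    C.orth j k hjk, C.orth k j hjk.symm, C.orth j l hjl, C.orth l j hjl.symm, C.orth k l hkl,
    C.orth l k hkl.symm, mul_zero, mul_one, add_zero, zero_add]

theorem Ctx.ext {g h : GL (Fin 3) F} (e : ∀ i, act g (a i) = act h (a i)) : g = h := by
  refine Cfsg.Agent.MaxCl.gl_ext fun x => ?_
  rw [C.expand x]
  simp only [map_add, map_smul, e]

theorem Ctx.iso {g : GL (Fin 3) F} (hg : g ∈ M) : g ∈ uiso f := (C.le hg).1

theorem Ctx.invol (x : F) : τ (τ x) = x := C.unitary.involutive x

/-- a diagonal element of the group -/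
theorem Ctx.diag {j k l : Fin 3} (hjk : j ≠ k) (hjl : j ≠ l) (hkl : k ≠ l) {x y z : F} (hx : x * τ x = 1)
    (hy : y * τ y = 1) (hz : z * τ z = 1) (h : x * y * z = 1) :
    ∃ g ∈ M, act g (a j) = x • a j ∧ act g (a k) = y • a k ∧ act g (a l) = z • a l := by
  have hne : ∀ i, f (a i) (a i) ≠ 0 := fun i => by rw [C.self]; exact one_ne_zero
  obtain ⟨r, hr, hr'⟩ := exists_qref C.unitary (hne j) hx
  obtain ⟨s, hs, hs'⟩ := exists_qref C.unitary (hne k) hy
  obtain ⟨t, ht, ht'⟩ := exists_qref C.unitary (hne l) hz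
  have e : ∀ v, act (r * s * t) v = v + ((x - 1) * f v (a j)) • a j + ((y - 1) * f v (a k)) • a k +
      ((z - 1) * f v (a l)) • a l := by
    intro v
    simp only [act_mul, hr' _, hs' _, ht' _, C.self, div_one, add_left C.unitary, smul_left C.unitary,
      C.orth k j hjk.symm, C.orth l j hjl.symm, C.orth l k hkl.symm, mul_zero, add_zero]
    abel
  have e1 : act (r * s * t) (a j) = x • a j := by
    rw [e, C.self, C.orth j k hjk, C.orth j l hjl]; module
  have e2 : act (r * s * t) (a k) = y • a k := by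
    rw [e, C.self, C.orth k j hjk.symm, C.orth k l hkl]; module
  have e3 : act (r * s * t) (a l) = z • a l := by
    rw [e, C.self, C.orth l j hjl.symm, C.orth l k hkl.symm]; module
  refine ⟨r * s * t, C.mono _ ⟨mul_mem (mul_mem hr hs) ht, SU4.mem_sl ?_⟩ fun i => ?_, e1, e2, e3⟩
  · rw [Units.val_mul, Units.val_mul, Matrix.det_mul, Matrix.det_mul, det_qref C.unitary (hne j) hr',
      det_qref C.unitary (hne k) hs', det_qref C.unitary (hne l) ht', h]
  · obtain rfl | rfl | rfl : i = j ∨ i = k ∨ i = l := by omega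
    · exact ⟨_, _, e1⟩
    · exact ⟨_, _, e2⟩
    · exact ⟨_, _, e3⟩

/-- an element moving a given frame line -/
theorem Ctx.swap {j k l : Fin 3} (hjk : j ≠ k) (hjl : j ≠ l) (hkl : k ≠ l) :
    ∃ g ∈ M, act g (a j) = a k := by
  obtain ⟨L, hL⟩ : ∃ L : (Fin 3 → F) →ₗ[F] (Fin 3 → F),
      ∀ v, L v = v - f v (a j - a k) • (a j - a k) :=
    ⟨LinearMap.id - (flinU C.unitary (a j - a k)).smulRight (a j - a k), fun v => by simp [flinU_apply]⟩
  have hee : f (a j - a k) (a j - a k) = 2 := by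
    simp only [sub_left C.unitary, sub_right C.unitary, C.self, C.orth j k hjk, C.orth k j hjk.symm]; ring
  have hLL : ∀ v, L (L v) = v := fun v => by
    rw [hL, hL, sub_left C.unitary, smul_left C.unitary, hee]; module
  obtain ⟨s, hs⟩ := exists_gl_of_injective L fun x y h => by rw [← hLL x, ← hLL y, h]
  have hsi : s ∈ uiso f := mem_uiso.2 fun u v => by
    rw [hs, hs, hL, hL]
    simp only [sub_left C.unitary, smul_left C.unitary, sub_right C.unitary, smul_right C.unitary,
      C.self, C.orth j k hjk, C.orth k j hjk.symm]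
    rw [show f (a j) v = τ (f v (a j)) from (herm' C.unitary v (a j)).symm,
      show f (a k) v = τ (f v (a k)) from (herm' C.unitary v (a k)).symm, map_sub]
    ring
  have hss : s * s = 1 := Cfsg.Agent.MaxCl.gl_ext fun v => by rw [act_mul, hs, hs, hLL, act_one]
  obtain ⟨d, hd⟩ : ∃ d, d = (s : Matrix (Fin 3) (Fin 3) F).det := ⟨_, rfl⟩
  have hdd : d * d = 1 := by rw [hd, ← Matrix.det_mul, ← Units.val_mul, hss, Units.val_one, Matrix.det_one]
  have hdn : d * τ d = 1 := by
    rcases mul_self_eq_one_iff.1 hdd with h | h <;> rw [h] <;> simp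
  have hne : f (a l) (a l) ≠ 0 := by rw [C.self]; exact one_ne_zero
  obtain ⟨r, hr, hr'⟩ := exists_qref C.unitary hne hdn
  have ej : act s (a j) = a k := by
    rw [hs, hL, sub_right C.unitary, C.self, C.orth j k hjk]; module
  have ek : act s (a k) = a j := by
    rw [hs, hL, sub_right C.unitary, C.self, C.orth k j hjk.symm]; module
  have el : act s (a l) = a l := by
    rw [hs, hL, sub_right C.unitary, C.orth l j hjl.symm, C.orth l k hkl.symm]; module
  have ej' : act (r * s) (a j) = a k := by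
    rw [act_mul, ej, hr', C.orth k l hkl, mul_zero, zero_div, zero_smul, add_zero]
  refine ⟨r * s, C.mono _ ⟨mul_mem hr hsi, SU4.mem_sl ?_⟩ fun i => ?_, ej'⟩
  · rw [Units.val_mul, Matrix.det_mul, det_qref C.unitary hne hr', ← hd, hdd]
  · obtain rfl | rfl | rfl : i = j ∨ i = k ∨ i = l := by omega
    · exact ⟨k, 1, by rw [ej', one_smul]⟩
    · exact ⟨j, 1, by rw [act_mul, ek, hr', C.orth j l hjl, mul_zero, zero_div, zero_smul, add_zero, one_smul]⟩
    · exact ⟨_, d, by rw [act_mul, el, hr', C.self, div_one, mul_one]; module⟩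

/-- a generator of the norm one scalars -/
theorem Ctx.exists_xi : ∃ ξ : F, ξ * τ ξ = 1 ∧ ∀ n : ℕ, ξ ^ n = 1 ↔ q + 1 ∣ n :=
  SU4.Frame.exists_xi C.qsq

theorem Ctx.small {n : ℕ} (hn : n ∣ 6) : ¬ q + 1 ∣ n := by
  intro h
  have h6 := h.trans hn
  have := Nat.le_of_dvd (by norm_num) h6
  have := C.three
  have := C.five
  have : q = 3 ∨ q = 4 := by omega
  rcases this with rfl | rfl <;> norm_num at h6

/-- the homology about an image of a frame point -/
theorem Ctx.homology {g : GL (Fin 3) F} (hg : g ∈ M) (i : Fin 3) {x : F} (hx : x * τ x = 1) :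
    ∃ h ∈ M, ∀ v, act h v = x • v + ((τ x * τ x - x) * f v (act g (a i))) • act g (a i) := by
  obtain ⟨j, k, hij, hik, hjk⟩ := others i
  have hx2 : (τ x * τ x) * τ (τ x * τ x) = 1 := by
    rw [map_mul, C.invol]; linear_combination (x * τ x + 1) * hx
  obtain ⟨t, ht, t1, t2, t3⟩ := C.diag hij hik hjk hx2 hx hx (by linear_combination (x * τ x + 1) * hx)
  refine ⟨g * t * g⁻¹, mul_mem (mul_mem hg ht) (inv_mem hg), fun v => ?_⟩
  obtain ⟨w, rfl⟩ : ∃ w, v = act g w := ⟨act g⁻¹ v, by rw [act_act_inv]⟩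
  rw [act_mul, act_mul, act_inv_act, mem_uiso.1 (C.iso hg)]
  have e : act t w = x • w + ((τ x * τ x - x) * f w (a i)) • a i := by
    conv_lhs => rw [C.expand' hij hik hjk w]
    conv_rhs => rw [C.expand' hij hik hjk w]
    simp only [map_add, map_smul, t1, t2, t3, smul_add, add_left C.unitary, smul_left C.unitary, C.self,
      C.orth j i hij.symm, C.orth k i hik.symm]
    module
  rw [e, map_add, map_smul, map_smul]

/-- isometries fixing two frame lines fix the third -/
theorem Ctx.mono_of_two {g : GL (Fin 3) F} (hg : g ∈ uiso f) {j k l : Fin 3} (hjk : j ≠ k) (hjl : j ≠ l)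
    (hkl : k ≠ l) {x z : F} (hj : act g (a j) = x • a j) (hl : act g (a l) = z • a l) :
    ∀ i, ∃ i', ∃ c : F, act g (a i) = c • a i' := by
  intro i
  obtain rfl | rfl | rfl : i = j ∨ i = k ∨ i = l := by omega
  · exact ⟨_, _, hj⟩
  · refine ⟨i, f (act g (a i)) (a i), ?_⟩
    have orth : ∀ (m : Fin 3) (c : F), i ≠ m → act g (a m) = c • a m → f (act g (a i)) (a m) = 0 := by
      intro m c hm hc
      have h := mem_uiso.1 hg (a i) (a m)
      have h' := mem_uiso.1 hg (a m) (a m)
      rw [C.orth i m hm, hc, smul_right C.unitary] at h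
      rw [hc, smul_right C.unitary, C.self] at h'
      exact (mul_eq_zero.1 h).resolve_left (left_ne_zero_of_mul_eq_one h')
    conv_lhs => rw [C.expand' hjk hjl hkl (act g (a i))]
    rw [orth _ _ hjk.symm hj, orth _ _ hkl hl]; module
  · exact ⟨_, _, hl⟩

/-- an orbit point on a frame line, not in the frame, gives everything -/
theorem Ctx.top_of_zero (hF : Fintype.card F = q ^ 2) {g : GL (Fin 3) F} (hg : g ∈ M) (i : Fin 3) {j k l : Fin 3}
    (hjk : j ≠ k) (hjl : j ≠ l) (hkl : k ≠ l) (hbl : f (act g (a i)) (a l) = 0)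
    (hbj : f (act g (a i)) (a j) ≠ 0) (hbk : f (act g (a i)) (a k) ≠ 0) : M = SUf q := by
  classical
  set b := act g (a i) with hb
  have hbb : f b b = 1 := by rw [hb, mem_uiso.1 (C.iso hg), C.self]
  obtain ⟨cj, hcj⟩ : ∃ c, c = f b (a j) := ⟨_, rfl⟩
  obtain ⟨ck, hck⟩ : ∃ c, c = f b (a k) := ⟨_, rfl⟩
  have hbe : b = cj • a j + ck • a k := by
    conv_lhs => rw [C.expand' hjk hjl hkl b]
    rw [hbl, ← hcj, ← hck]; module
  rw [← hcj] at hbj; rw [← hck] at hbk
  have hjb : f (a j) b = τ cj := by rw [hcj, herm' C.unitary]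
  have hkb : f (a k) b = τ ck := by rw [hck, herm' C.unitary]
  have hlb : f (a l) b = 0 := eq_zero_symm C.unitary hbl
  obtain ⟨ξ, hξ, hξn⟩ := C.exists_xi
  -- an element mixing the two points
  obtain ⟨x, hx, hx2, hxa⟩ : ∃ x, x * τ x = 1 ∧ τ x * τ x - x ≠ 0 ∧
      x + (τ x * τ x - x) * τ cj * cj ≠ 0 := by
    have hne : ∀ x : F, x * τ x = 1 → x ^ 3 ≠ 1 → τ x * τ x - x ≠ 0 := fun x hx h3 h => h3 (by
      linear_combination (-(x * x)) * h + (x * τ x + 1) * hx)
    have n1 : ξ ^ 3 ≠ 1 := fun h => C.small (by norm_num) ((hξn 3).1 h)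
    have n2 : (ξ * ξ) ^ 3 ≠ 1 := fun h => C.small dvd_rfl ((hξn 6).1 (by linear_combination h))
    have hξ2 : (ξ * ξ) * τ (ξ * ξ) = 1 := by rw [map_mul]; linear_combination (ξ * τ ξ + 1) * hξ
    by_contra hno
    push Not at hno
    have A := hno ξ hξ (hne ξ hξ n1)
    have B := hno _ hξ2 (hne _ hξ2 n2)
    set N := τ cj * cj
    have A' : ξ ^ 3 * (1 - N) + N = 0 := by
      linear_combination (ξ * ξ) * A - (N * (ξ * τ ξ + 1)) * hξ
    have B' : (ξ * ξ) ^ 3 * (1 - N) + N = 0 := by
      linear_combination ((ξ * ξ) * (ξ * ξ)) * B - (N * ((ξ * ξ) * τ (ξ * ξ) + 1)) * hξ2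
    have hξ0 : ξ ≠ 0 := left_ne_zero_of_mul_eq_one hξ
    have hN : 1 - N = 0 := (mul_eq_zero.1 (show (ξ ^ 3 * (ξ ^ 3 - 1)) * (1 - N) = 0 by
      linear_combination B' - A')).resolve_left (mul_ne_zero (pow_ne_zero _ hξ0) (sub_ne_zero.2 n1))
    exact one_ne_zero (show (1 : F) = 0 by linear_combination A' + (1 - ξ ^ 3) * hN)
  obtain ⟨y, hy⟩ : ∃ y, y = τ x * τ x - x := ⟨_, rfl⟩
  rw [← hy] at hx2 hxa
  obtain ⟨m₀, hm₀, hm₀e⟩ := C.homology hg i hx
  simp only [← hy, ← hb] at hm₀e
  have hml : act m₀ (a l) = x • a l := by rw [hm₀e, hlb, mul_zero, zero_smul, add_zero]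
  let H : Subgroup (GL (Fin 3) F) := M ⊓ Cfsg.Geo.subspaceStabilizer (F ∙ a l)
  have inH : ∀ {m : GL (Fin 3) F} {c : F}, m ∈ M → act m (a l) = c • a l → m ∈ H := by
    intro m c hm hc
    refine ⟨hm, mem_subspaceStabilizer_of_le fun v hv => ?_⟩
    obtain ⟨r, rfl⟩ := Submodule.mem_span_singleton.1 hv
    rw [map_smul, hc, smul_smul]
    exact Submodule.smul_mem _ _ (Submodule.mem_span_singleton_self _)
  have outH : ∀ {m : GL (Fin 3) F}, m ∈ H → ∃ c : F, act m (a l) = c • a l := fun {m} hm => by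
    obtain ⟨c, hc⟩ := Submodule.mem_span_singleton.1
      ((mem_subspaceStabilizer.1 hm.2 (a l)).1 (Submodule.mem_span_singleton_self _))
    exact ⟨c, hc.symm⟩
  have htr : ∀ {c d : F}, c * τ c + d * τ d = 1 →
      ∃ m ∈ H, ∃ s : F, s ≠ 0 ∧ act m (a j) = s • (c • a j + d • a k) := by
    intro c d hcd
    refine SU4.Frame.plane_trans C.qsq C.unitary H (fun m hm => C.iso hm.1) (C.self j) (C.self k) (C.orth j k hjk)
      (fun γ hγ => ?_) (m₀ := m₀) (inH hm₀ hml) (a := x + y * τ cj * cj) (b := y * τ cj * ck)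
      (a₂ := y * τ ck * cj) (b₂ := x + y * τ ck * ck) hxa
      (mul_ne_zero (mul_ne_zero hx2 ((map_ne_zero τ).2 hbj)) hbk) ?_ ?_ hcd
    · obtain ⟨t, ht, t1, t2, t3⟩ := C.diag hjk hjl hkl hγ (by simp : (1 : F) * τ 1 = 1)
        (by rw [C.invol, mul_comm, hγ] : τ γ * τ (τ γ) = 1) (by rw [mul_one, hγ])
      exact ⟨t, inH ht t3, t1, by rw [t2, one_smul]⟩
    · rw [hm₀e, hjb, hbe]; module
    · rw [hm₀e, hkb, hbe]; module
  have hstab : ∀ h ∈ SUf (F := F) q, ∀ z : F, act h (a l) = z • a l → h ∈ M := by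
    intro h hh z hz
    have hzz := mem_uiso.1 hh.1 (a l) (a l)
    rw [hz, smul_left C.unitary, smul_right C.unitary, C.self, mul_one] at hzz
    have h0 : f (act h (a j)) (a l) = 0 := by
      have := mem_uiso.1 hh.1 (a j) (a l)
      rw [C.orth j l hjl, hz, smul_right C.unitary] at this
      exact (mul_eq_zero.1 this).resolve_left (right_ne_zero_of_mul_eq_one hzz)
    obtain ⟨c, hc⟩ : ∃ c, c = f (act h (a j)) (a j) := ⟨_, rfl⟩
    obtain ⟨d, hd⟩ : ∃ d, d = f (act h (a j)) (a k) := ⟨_, rfl⟩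
    have he : act h (a j) = c • a j + d • a k := by
      conv_lhs => rw [C.expand' hjk hjl hkl (act h (a j))]
      rw [h0, ← hc, ← hd]; module
    have hsum : c * τ c + d * τ d = 1 := by
      have := C.norm_sum hjk hjl hkl (act h (a j))
      rw [mem_uiso.1 hh.1, C.self, h0, ← hc, ← hd] at this
      simpa using this.symm
    obtain ⟨m, hm, s, hs0, hme⟩ := htr hsum
    rw [← he] at hme
    obtain ⟨z', hz'⟩ := outH hm
    have hz'0 : z' ≠ 0 := fun h' => C.a0 l (act_injective m (by rw [hz', h', zero_smul, map_zero]))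
    have ej : act (m⁻¹ * h) (a j) = s⁻¹ • a j := act_injective m (by
      rw [act_mul, act_act_inv, map_smul, hme, smul_smul, inv_mul_cancel₀ hs0, one_smul])
    have el : act (m⁻¹ * h) (a l) = (z / z') • a l := act_injective m (by
      rw [act_mul, act_act_inv, map_smul, hz', hz, smul_smul, div_mul_cancel₀ _ hz'0])
    have hk : m⁻¹ * h ∈ SUf (F := F) q := mul_mem (inv_mem (C.le hm.1)) hh
    have := mul_mem hm.1 (C.mono _ hk (C.mono_of_two hk.1 hjk hjl hkl ej el))
    rwa [mul_inv_cancel_left] at this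
  have hnd : Cfsg.Geo.IsNondegenerateOn f (F ∙ a l) := by
    intro v hv hv0
    obtain ⟨r, rfl⟩ := Submodule.mem_span_singleton.1 hv
    have hr : r ≠ 0 := fun h => hv0 (by rw [h, zero_smul])
    refine ⟨⟨a l, Submodule.mem_span_singleton_self _, ?_⟩, ⟨a l, Submodule.mem_span_singleton_self _, ?_⟩⟩
    · rw [smul_right C.unitary, C.self, mul_one]; exact (map_ne_zero τ).2 hr
    · rw [smul_left C.unitary, C.self, mul_one]; exact hr
  have hmax := SU3.point_maximal q hF C.three (F ∙ a l) (fun h => C.a0 l (Submodule.span_singleton_eq_bot.1 h)) hnd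
    (by rw [finrank_span_singleton (C.a0 l)]; omega)
  refine (hmax.2 M (fun h hh => ?_) C.le).resolve_left fun he => ?_
  · obtain ⟨z, hz⟩ := Submodule.mem_span_singleton.1
      ((mem_subspaceStabilizer.1 hh.1 (a l)).1 (Submodule.mem_span_singleton_self _))
    exact hstab h hh.2 z hz.symm
  · obtain ⟨s, hs, hse⟩ := C.swap hjl.symm hkl.symm hjk
    rw [he] at hs
    have := (mem_subspaceStabilizer.1 hs.1 (a l)).1 (Submodule.mem_span_singleton_self _)
    rw [hse] at this
    obtain ⟨r, hr⟩ := Submodule.mem_span_singleton.1 this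
    have := congrArg (f · (a j)) hr
    simp only [smul_left C.unitary, C.self, C.orth l j hjl.symm, mul_zero] at this
    exact zero_ne_one this

/-- a full orbit point with a coordinate of norm different from one gives an orbit point on a frame line -/
theorem Ctx.top_of_coord (hF : Fintype.card F = q ^ 2) {g : GL (Fin 3) F} (hg : g ∈ M) (i₀ : Fin 3) (i : Fin 3)
    (hi : f (act g (a i₀)) (a i) ≠ 0) (hN : f (act g (a i₀)) (a i) * τ (f (act g (a i₀)) (a i)) ≠ 1) :
    M = SUf q := by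
  classical
  obtain ⟨j, k, hij, hik, hjk⟩ := others i
  set b := act g (a i₀) with hb
  have hbb : f b b = 1 := by rw [hb, mem_uiso.1 (C.iso hg), C.self]
  have hsum := C.norm_sum hij hik hjk b
  rw [hbb] at hsum
  by_cases hj : f b (a j) = 0
  · refine C.top_of_zero hF hg i₀ hik hij hjk.symm hj hi fun hk => hN ?_
    rw [← hb] at hk
    simp only [hj, hk, zero_mul, add_zero] at hsum
    exact hsum.symm
  by_cases hk : f b (a k) = 0
  · exact C.top_of_zero hF hg i₀ hij hik hjk hk hi hj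
  obtain ⟨c, hc⟩ : ∃ c, c = f b (a i) := ⟨_, rfl⟩
  rw [← hc] at hi hN
  obtain ⟨b', hb'⟩ : ∃ b', b' = b - c • a i := ⟨_, rfl⟩
  have hib : f (a i) b = τ c := by rw [hc, herm' C.unitary]
  have hb'i : f b' (a i) = 0 := by rw [hb', sub_left C.unitary, smul_left C.unitary, C.self, ← hc]; ring
  have hb'b' : f b' b' = 1 - c * τ c := by
    rw [hb']
    simp only [sub_left C.unitary, sub_right C.unitary, smul_left C.unitary, smul_right C.unitary, hbb, hib,
      ← hc, C.self]
    ring
  have hb'0 : f b' b' ≠ 0 := by rw [hb'b']; exact sub_ne_zero.2 (Ne.symm hN)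
  obtain ⟨β, hβ⟩ := exists_scale C.unitary hb'0 (map_one τ)
  have hβ0 : β ≠ 0 := by rintro rfl; rw [zero_smul, zero_left C.unitary] at hβ; exact zero_ne_one hβ
  obtain ⟨w, hw⟩ : ∃ w, w = β • b' := ⟨_, rfl⟩
  rw [← hw] at hβ
  have hwi : f w (a i) = 0 := by rw [hw, smul_left C.unitary, hb'i, mul_zero]
  have hiw : f (a i) w = 0 := eq_zero_symm C.unitary hwi
  obtain ⟨d, hd⟩ : ∃ d, d = β⁻¹ := ⟨_, rfl⟩
  have hbe : b = c • a i + d • w := by
    rw [hd, hw, smul_smul, inv_mul_cancel₀ hβ0, one_smul, hb']; module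
  have hd0 : d ≠ 0 := hd ▸ inv_ne_zero hβ0
  have hwb : f w b = τ d := by rw [hbe, add_right C.unitary, smul_right C.unitary, smul_right C.unitary, hwi, hβ]; ring
  obtain ⟨ξ, hξ, hξn⟩ := C.exists_xi
  have hξ0 : ξ ≠ 0 := left_ne_zero_of_mul_eq_one hξ
  have hτξ : τ ξ = ξ⁻¹ := eq_inv_of_mul_eq_one_right hξ
  have n1 : ξ ^ 3 ≠ 1 := fun h => C.small (by norm_num) ((hξn 3).1 h)
  obtain ⟨y, hy⟩ : ∃ y, y = τ ξ * τ ξ - ξ := ⟨_, rfl⟩
  have hy0 : y ≠ 0 := fun h => n1 (by
    linear_combination (-(ξ * ξ)) * (hy.symm.trans h) + (ξ * τ ξ + 1) * hξ)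
  have hsq : IsSquare (τ ξ) := by
    rcases eq_or_ne (ringChar F) 2 with h2 | h2
    · exact FiniteField.isSquare_of_char_two h2 _
    rw [FiniteField.isSquare_iff h2 ((map_ne_zero τ).2 hξ0), hτξ, inv_pow, inv_eq_one, hξn, hF]
    have hodd : q % 2 = 1 := by
      have := FiniteField.odd_card_of_char_ne_two h2
      rw [hF, Nat.pow_mod] at this
      rcases Nat.mod_two_eq_zero_or_one q with h | h
      · rw [h] at this; norm_num at this
      · exact h
    obtain ⟨r, hr⟩ : ∃ r, q = 2 * r + 1 := ⟨q / 2, by omega⟩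
    refine ⟨r, ?_⟩
    rw [show q ^ 2 = 2 * (2 * r * (r + 1)) + 1 by subst hr; ring, hr]
    rw [show (2 * (2 * r * (r + 1)) + 1) / 2 = 2 * r * (r + 1) by omega]
    ring
  obtain ⟨h, hh, hhe⟩ := C.homology hg i₀ hξ
  obtain ⟨h', hh', hhe'⟩ := C.homology M.one_mem i hξ
  simp only [← hy, ← hb] at hhe
  simp only [← hy, act_one] at hhe'
  -- the group on the plane of `a i` and `w`
  let G₀ : Subgroup (GL (Fin 2) F) :=
    { carrier := {A | ∃ m ∈ M, ∀ v, act m (comb (a i) w v) = comb (a i) w (act A v)}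
      one_mem' := ⟨1, M.one_mem, fun v => by simp [act_one]⟩
      mul_mem' := by
        rintro A A' ⟨m, hm, e⟩ ⟨m', hm', e'⟩
        exact ⟨m * m', M.mul_mem hm hm', fun v => by rw [act_mul, e', e, act_mul]⟩
      inv_mem' := by
        rintro A ⟨m, hm, e⟩
        exact ⟨m⁻¹, M.inv_mem hm, fun v => act_injective m (by rw [act_act_inv, e, act_act_inv])⟩ }
  let Q : Subgroup (GL (Fin 2) F) :=
    { carrier := {A | IsSquare (A : Matrix (Fin 2) (Fin 2) F).det}
      one_mem' := by simp
      mul_mem' := by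
        intro A A' hA hA'
        show IsSquare (Matrix.det _)
        rw [Units.val_mul, Matrix.det_mul]
        exact hA.mul hA'
      inv_mem' := by
        intro A hA
        show IsSquare (Matrix.det _)
        rw [Matrix.coe_units_inv, Matrix.det_nonsing_inv, Ring.inverse_eq_inv']
        exact hA.inv }
  let A : GL (Fin 2) F := Matrix.GeneralLinearGroup.mkOfDetNeZero !![ξ + y, 0; 0, ξ]
    (by rw [Matrix.det_fin_two_of, hy]; simp [hξ0, hτξ])
  let B : GL (Fin 2) F := Matrix.GeneralLinearGroup.mkOfDetNeZero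
    !![ξ + y * τ c * c, y * τ d * c; y * τ c * d, ξ + y * τ d * d]
    (by
      have hcd : c * τ c + d * τ d = 1 := by
        have := hbb
        rw [hbe, add_left C.unitary, smul_left C.unitary, smul_left C.unitary, ← hbe, hib, hwb] at this
        linear_combination this
      rw [Matrix.det_fin_two_of]
      intro h0
      refine (map_ne_zero τ).2 hξ0 ?_
      linear_combination h0 - (τ ξ) * hξ - ξ * y * hcd - ξ * hy)
  have hA : A ∈ G₀ ⊓ Q := by
    refine ⟨⟨h', hh', fun v => ?_⟩, ?_⟩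
    · rw [hhe']
      simp only [comb, act_apply, A, Matrix.GeneralLinearGroup.val_mkOfDetNeZero, Matrix.mulVec, dotProduct,
        Fin.sum_univ_two, Matrix.of_apply, Matrix.cons_val', Matrix.cons_val_zero, Matrix.cons_val_one,
        Matrix.cons_val_fin_one, add_left C.unitary, smul_left C.unitary, C.self, hwi]
      module
    · show IsSquare (Matrix.det _)
      rw [show ((A : Matrix (Fin 2) (Fin 2) F)).det = τ ξ by
        simp only [A, Matrix.GeneralLinearGroup.val_mkOfDetNeZero, Matrix.det_fin_two_of]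
        linear_combination ξ * hy + τ ξ * hξ]
      exact hsq
  have hB : B ∈ G₀ ⊓ Q := by
    refine ⟨⟨h, hh, fun v => ?_⟩, ?_⟩
    · rw [hhe]
      simp only [comb, act_apply, B, Matrix.GeneralLinearGroup.val_mkOfDetNeZero, Matrix.mulVec, dotProduct,
        Fin.sum_univ_two, Matrix.of_apply, Matrix.cons_val', Matrix.cons_val_zero, Matrix.cons_val_one,
        Matrix.cons_val_fin_one, add_left C.unitary, smul_left C.unitary, hib, hwb]
      rw [hbe]
      module
    · show IsSquare (Matrix.det _)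
      have hcd : c * τ c + d * τ d = 1 := by
        have := hbb
        rw [hbe, add_left C.unitary, smul_left C.unitary, smul_left C.unitary, ← hbe, hib, hwb] at this
        linear_combination this
      rw [show ((B : Matrix (Fin 2) (Fin 2) F)).det = τ ξ by
        simp only [B, Matrix.GeneralLinearGroup.val_mkOfDetNeZero, Matrix.det_fin_two_of]
        linear_combination ξ * y * hcd + ξ * hy + τ ξ * hξ]
      exact hsq
  obtain ⟨K, hK, hK0⟩ := exists_corner_gl (G₀ ⊓ Q) (fun A h => h.2) hA hB (by simp [A]) (by simp [A])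
    (ρ := τ ξ ^ 3) (by simp [A]; linear_combination hy - (τ ξ * τ ξ) * hξ)
    (fun e => C.small (n := 6) dvd_rfl ((hξn 6).1 (by
      rw [hτξ, inv_pow, inv_pow, inv_eq_one] at e; linear_combination e)))
    (fun e => by
      have h9 : ξ ^ 9 = 1 := by rw [hτξ, inv_pow, inv_pow, inv_eq_one] at e; linear_combination e
      have hd := (hξn 9).1 h9
      have := Nat.le_of_dvd (by norm_num) hd
      have := C.three
      have := C.five
      obtain rfl : q = 8 := by
        rcases (show q = 3 ∨ q = 4 ∨ q = 6 ∨ q = 7 ∨ q = 8 by omega) with e | e | e | e | e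
        all_goals first
          | exact e
          | (rw [e] at hd; norm_num at hd)
      have := C.qsq.cast_q
      push_cast at this
      exact eq_zero_of_pow_eq_zero (n := 3) (by linear_combination this))
    (by simpa [B] using mul_ne_zero (mul_ne_zero hy0 ((map_ne_zero τ).2 hd0)) hi)
    (by simpa [B] using mul_ne_zero (mul_ne_zero hy0 ((map_ne_zero τ).2 hi)) hd0)
  obtain ⟨⟨m, hm, hme⟩, -⟩ := hK
  have e := hme (Pi.single 0 1)
  have eu : comb (a i) w (Pi.single 0 1) = a i := by simp [comb]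
  have eK : act K (Pi.single 0 1) 0 = 0 := by
    rw [act_apply, Matrix.mulVec_single_one]; exact hK0
  rw [eu, comb, eK, zero_smul, zero_add] at e
  obtain ⟨κ, hκ⟩ : ∃ κ, κ = act K (Pi.single 0 1) 1 := ⟨_, rfl⟩
  rw [← hκ] at e
  have hκ0 : κ ≠ 0 := fun h => C.a0 i (act_injective m (by rw [e, h, zero_smul, map_zero]))
  refine C.top_of_zero hF hm i hjk hij.symm hik.symm ?_ ?_ ?_
  · rw [e, smul_left C.unitary, hwi, mul_zero]
  · rw [e, hw, smul_left C.unitary, smul_left C.unitary, hb', sub_left C.unitary, smul_left C.unitary,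
      C.orth i j hij, mul_zero, sub_zero]
    exact mul_ne_zero hκ0 (mul_ne_zero hβ0 hj)
  · rw [e, hw, smul_left C.unitary, smul_left C.unitary, hb', sub_left C.unitary, smul_left C.unitary,
      C.orth i k hik, mul_zero, sub_zero]
    exact mul_ne_zero hκ0 (mul_ne_zero hβ0 hk)

/-- a group above the frame stabiliser with an orbit point outside the frame is everything -/
theorem Ctx.eq_top (hF : Fintype.card F = q ^ 2) {g : GL (Fin 3) F} (hg : g ∈ M) (i₀ : Fin 3)
    (hout : ∀ j, ∀ c : F, act g (a i₀) ≠ c • a j) : M = SUf q := by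
  classical
  set b := act g (a i₀) with hb
  have hbb : f b b = 1 := by rw [hb, mem_uiso.1 (C.iso hg), C.self]
  by_cases hgood : ∃ i, f b (a i) ≠ 0 ∧ f b (a i) * τ (f b (a i)) ≠ 1
  · obtain ⟨i, h1, h2⟩ := hgood
    exact C.top_of_coord hF hg i₀ i h1 h2
  push Not at hgood
  by_cases hz : ∃ i, f b (a i) = 0
  · obtain ⟨i, hi⟩ := hz
    obtain ⟨j, k, hij, hik, hjk⟩ := others i
    have he := C.expand' hij hik hjk b
    rw [hi, zero_smul, zero_add] at he
    refine C.top_of_zero hF hg i₀ hjk hij.symm hik.symm hi ?_ ?_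
    · exact fun h => hout k (f b (a k)) (by rw [← hb] at h; rw [h, zero_smul, zero_add] at he; exact he)
    · exact fun h => hout j (f b (a j)) (by rw [← hb] at h; rw [h, zero_smul, add_zero] at he; exact he)
  push Not at hz
  have h1 : ∀ i, f b (a i) * τ (f b (a i)) = 1 := fun i => hgood i (hz i)
  have h2 : (2 : F) = 0 := by
    have := C.norm_sum (show (0 : Fin 3) ≠ 1 by decide) (show (0 : Fin 3) ≠ 2 by decide) (by decide) b
    rw [hbb, h1, h1, h1] at this
    linear_combination -this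
  obtain ⟨ξ, hξ, hξn⟩ := C.exists_xi
  obtain ⟨t, ht, t0, t1, t2⟩ := C.diag (show (0 : Fin 3) ≠ 1 by decide) (show (0 : Fin 3) ≠ 2 by decide)
    (show (1 : Fin 3) ≠ 2 by decide) hξ
    (by rw [C.invol, mul_comm, hξ] : τ ξ * τ (τ ξ) = 1) (by simp : (1 : F) * τ 1 = 1) (by rw [hξ, one_mul])
  have key : f (act (g⁻¹ * t * g) (a i₀)) (a i₀) = ξ + τ ξ + 1 := by
    rw [← mem_uiso.1 (C.iso hg) (act (g⁻¹ * t * g) (a i₀)), act_mul, act_mul, act_act_inv, ← hb,
      C.expand b]
    simp only [map_add, map_smul, t0, t1, t2, add_left C.unitary, add_right C.unitary, smul_left C.unitary,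
      smul_right C.unitary, C.self, C.orth 0 1 (by decide), C.orth 0 2 (by decide),
      C.orth 1 0 (by decide), C.orth 1 2 (by decide), C.orth 2 0 (by decide), C.orth 2 1 (by decide)]
    linear_combination ξ * h1 0 + τ ξ * h1 1 + h1 2
  refine C.top_of_coord hF (mul_mem (mul_mem (inv_mem hg) ht) hg) i₀ i₀ ?_ ?_
  · rw [key]
    intro h
    exact C.small (n := 3) (by norm_num) ((hξn 3).1 (by linear_combination ξ * (ξ - 1) * h - (ξ - 1) * hξ))
  · rw [key, map_add, map_add, map_one, C.invol]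
    intro h
    have h' : (ξ + τ ξ) * (ξ + τ ξ) = 0 := by linear_combination h - (ξ + τ ξ) * h2
    have h'' := mul_self_eq_zero.1 h'
    exact C.small (n := 2) (by norm_num) ((hξn 2).1 (by linear_combination ξ * h'' - hξ + (-1 : F) * h2 + h2 - h2))

end Cfsg.Agent.MaxCl.SU3.Frame

namespace Cfsg.Agent.MaxCl.SU3

open Cfsg.Agent.MaxCl Cfsg.Agent.MaxCl.Unit

/-- Stabilisers of orthogonal frames are maximal in SU_3(q), q ≠ 5. -/
theorem frame_maximal {F : Type*} [Field F] [Fintype F] (q : ℕ) (hF : Fintype.card F = q ^ 2) (hq : 3 ≤ q)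
    (h5 : q ≠ 5) (D : Fin 3 → Submodule F (Fin 3 → F))
    (hD : Cfsg.Geo.IsNondegenerateMDecomposition (Cfsg.hermForm 3 F q) 1 D) :
    Cfsg.Geo.IsMaximalIn (Cfsg.GU 3 F q ⊓ Cfsg.Geo.specialLinear (Fin 3) F)
      (Cfsg.Geo.decompositionStabilizer D ⊓ (Cfsg.GU 3 F q ⊓ Cfsg.Geo.specialLinear (Fin 3) F)) := by
  classical
  obtain ⟨τ, hτ, hU⟩ := hermForm_isUnitary 3 q hF
  change Cfsg.Geo.IsMaximalIn (uiso _ ⊓ _) (_ ⊓ (uiso _ ⊓ _))
  have hex : ∀ i, ∃ v ∈ D i, Cfsg.hermForm 3 F q v v = 1 := fun i =>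
    exists_aniso_in hU (hD.nondegenerate i) fun h => by
      have := hD.decomp.finrank_eq i
      rw [h, finrank_bot] at this
      exact one_ne_zero this.symm
  choose a haD haa using hex
  have ha0 : ∀ i, a i ≠ 0 := fun i h => one_ne_zero (by rw [← haa i, h, zero_left hU])
  have hDe : ∀ i, D i = F ∙ a i := fun i => by
    refine (Submodule.eq_of_le_of_finrank_le ((Submodule.span_singleton_le_iff_mem _ _).2 (haD i)) ?_).symm
    rw [finrank_span_singleton (ha0 i), hD.decomp.finrank_eq]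
  have horth : ∀ i j, i ≠ j → Cfsg.hermForm 3 F q (a i) (a j) = 0 := fun i j hij =>
    hD.orthogonal i j hij (a i) (haD i) (a j) (haD j)
  have hmem : ∀ g, (∀ i, ∃ j, ∃ c : F, act g (a i) = c • a j) → g ∈ Cfsg.Geo.decompositionStabilizer D := by
    intro g hg
    choose s c hc using hg
    have hc0 : ∀ i, c i ≠ 0 := fun i h => ha0 i (act_injective g (by rw [hc, h, zero_smul, map_zero]))
    have hs : Function.Injective s := fun i i' h => by
      by_contra hne
      have e : act g (c i' • a i) = act g (c i • a i') := by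
        rw [map_smul, map_smul, hc, hc, h, smul_smul, smul_smul, mul_comm]
      have := congrArg (Cfsg.hermForm 3 F q · (a i)) (act_injective g e)
      simp only [smul_left hU, haa, horth i' i (Ne.symm hne), mul_zero, mul_one] at this
      exact hc0 i' this
    refine ⟨Equiv.ofBijective s ⟨hs, Finite.surjective_of_injective hs⟩, fun i => ?_⟩
    rw [hDe, hDe, Submodule.map_span, Set.image_singleton]
    show F ∙ act g (a i) = _
    rw [hc, Submodule.span_singleton_smul_eq (isUnit_iff_ne_zero.2 (hc0 i))]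
    rfl
  have hC : ∀ M, Cfsg.Geo.decompositionStabilizer D ⊓ Frame.SUf q ≤ M → M ≤ Frame.SUf (F := F) q →
      Frame.Ctx τ q a M := fun M h1 h2 =>
    { qsq := ⟨hF, hτ⟩, three := hq, five := h5, unitary := hU, self := haa, orth := horth
      mono := fun g hg hm => h1 ⟨hmem g hm, hg⟩, le := h2 }
  have hout : ∀ g ∈ Frame.SUf (F := F) q, g ∉ Cfsg.Geo.decompositionStabilizer D →
      ∃ i₀, ∀ j, ∀ c : F, act g (a i₀) ≠ c • a j := fun g _ hg => by
    by_contra h
    push Not at h
    exact hg (hmem g h)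
  refine ⟨lt_of_le_of_ne inf_le_right ?_, fun M h1 h2 => ?_⟩
  · intro heq
    have C := hC (Frame.SUf q) inf_le_right le_rfl
    obtain ⟨e, he⟩ := exists_scale hU (x := a 1) (by rw [haa]; exact one_ne_zero) (a := -1) (by simp)
    rw [smul_left hU, smul_right hU, haa, mul_one] at he
    obtain ⟨u, hu⟩ : ∃ u, u = a 0 + e • a 1 := ⟨_, rfl⟩
    have huu : Cfsg.hermForm 3 F q u u = 0 := by
      simp only [hu, add_left hU, add_right hU, smul_left hU, smul_right hU, haa, horth 0 1 (by decide),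
        horth 1 0 (by decide)]
      linear_combination he
    obtain ⟨c, hc0, hcs, hc1⟩ : ∃ c, c ≠ 0 ∧ c + τ c = 0 ∧ 1 + c ≠ 0 := by
      obtain ⟨c, hc0, hcs⟩ := exists_skew hU.ne_refl hU.involutive
      by_cases hc1 : 1 + c = 0
      · obtain ⟨ξ, hξ, hξn⟩ := C.exists_xi
        refine ⟨(ξ + τ ξ) * c, mul_ne_zero (fun h => ?_) hc0, ?_, fun h => ?_⟩
        · have hc : c = -1 := by linear_combination hc1
          rw [hc, map_neg, map_one] at hcs
          exact C.small (n := 2) (by norm_num) ((hξn 2).1 (by linear_combination ξ * h - hξ + hcs))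
        · rw [map_mul, map_add, hU.involutive]; linear_combination (ξ + τ ξ) * hcs
        · have h' : ξ + τ ξ = 1 := by linear_combination (ξ + τ ξ) * hc1 - h
          exact C.small (n := 6) dvd_rfl ((hξn 6).1 (by
            linear_combination (ξ ^ 3 - 1) * (ξ + 1) * (ξ * h' - hξ)))
      · exact ⟨c, hc0, hcs, hc1⟩
    have hg : utv hU u c ∈ Cfsg.Geo.decompositionStabilizer D := (heq.ge
      (show utv hU u c ∈ Frame.SUf (F := F) q from
        ⟨utv_mem hU huu hcs, det_ptv hU (by rw [smul_right hU, huu, mul_zero])⟩)).1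
    obtain ⟨σ, hσ⟩ := hg
    have h0 := hσ 0
    rw [hDe, hDe, Submodule.map_span, Set.image_singleton] at h0
    have h1 : act (utv hU u c) (a 0) ∈ F ∙ a (σ 0) := h0 ▸ Submodule.mem_span_singleton_self _
    obtain ⟨r, hr⟩ := Submodule.mem_span_singleton.1 h1
    rw [act_utv hU huu, show Cfsg.hermForm 3 F q (a 0) u = 1 by
      rw [hu, add_right hU, smul_right hU, haa, horth 0 1 (by decide)]; ring, mul_one, hu] at hr
    have e0 := congrArg (Cfsg.hermForm 3 F q · (a 0)) hr
    have e1 := congrArg (Cfsg.hermForm 3 F q · (a 1)) hr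
    simp only [add_left hU, smul_left hU, haa, horth 0 1 (by decide), horth 1 0 (by decide)] at e0 e1
    have he0 : e ≠ 0 := by rintro rfl; simp at he
    by_cases h : σ 0 = 0
    · rw [h, horth 0 1 (by decide)] at e1
      exact mul_ne_zero hc0 he0 (by linear_combination -e1)
    · rw [horth (σ 0) 0 h] at e0
      exact hc1 (by linear_combination -e0)
  · by_cases hsub : M ≤ Cfsg.Geo.decompositionStabilizer D
    · exact Or.inl (le_antisymm (le_inf hsub h2) h1)
    obtain ⟨g, hgM, hg⟩ := SetLike.not_le_iff_exists.1 hsub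
    obtain ⟨i₀, hi⟩ := hout g (h2 hgM) hg
    exact Or.inr ((hC M h1 h2).eq_top hF hgM i₀ hi)

end Cfsg.Agent.MaxCl.SU3
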